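import Mathlib
import Cfsg.Agent.H144.Decomp
import Cfsg.Agent.H85.Ore.Phi_mg_m3
import Cfsg.Agent.H494.F22.Rep_mg
import Cfsg.Agent.H123.Cls.Eng
import Cfsg.Agent.FastGrp
import Cfsg.Agent.Prune
set_option linter.all false

section
prune_inst 0x7fffadfabffffbffdfff7e77a7dfedfdffbfffffa4fffd43ffe26bff9bff5f92cdcdf7ad8beabbfe5ff7c21450e8fb43ffffffffe06bfc7ffffd5ff41ffbffcffdf7b509519488340fbc0ffe03f0778e7f3fffffffffffffffffffffffffffbeffbfffffffff

-- part: H649/PwSp/Corner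
section
prune_inst 0x520100000400200001885020000000400000100000b8000180006000a0690022005064154000800001288d060000000000000200000000000008c0000010020848342041240a10426000f802000000000000000000000000000000000041000000000000
set_option linter.all false
open scoped Cfsg.Agent.FastGrp

-- part: H649/PwSp/Eng
section
/-!
# Products of two isometries of order prime to `N` (symplectic spaces)

* `PrB B N g` : `g = X Y` with isometries `X`, `Y`, `X ^ k = Y ^ k = 1`, `k` prime to `N`.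
* `Rad B P` : the unipotent radical of the stabilizer of the isotropic subspace `P`.
* `prB_levi` : `u L u'` with `L = X Y` in a Levi subgroup, `X`, `Y` without fixed points in the radicals.
* `prB_corner` : `u u'`.
* `PrB.glue` : orthogonal sums.
-/

set_option autoImplicit false
open Polynomial

noncomputable section

namespace Cfsg.Agent.H649.PwSp

open Cfsg.Agent.H144

/-- If `Z` normalizes the finite subgroup `R` and has no fixed points in `R`, then `u Z` is conjugate to `Z`. -/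
theorem conj_of_fpf {G : Type*} [Group G] (R : Subgroup G) [Finite R] (Z : G)
    (hZ : ∀ r ∈ R, Z * r * Z⁻¹ ∈ R) (hC : ∀ r ∈ R, Z * r = r * Z → r = 1) :
    ∀ u ∈ R, ∃ r ∈ R, u * Z = r * Z * r⁻¹ := by
  let φ : R → R := fun r => ⟨r * (Z * (r : G)⁻¹ * Z⁻¹), R.mul_mem r.2 (hZ _ (R.inv_mem r.2))⟩
  have hφ : Function.Injective φ := by
    intro a b hab
    have h1 : (a : G) * (Z * (a : G)⁻¹ * Z⁻¹) = b * (Z * (b : G)⁻¹ * Z⁻¹) := congrArg Subtype.val hab
    have h2 := hC ((b : G)⁻¹ * a) (R.mul_mem (R.inv_mem b.2) a.2) (by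
      have h3 : (b : G)⁻¹ * a * Z = Z * ((b : G)⁻¹ * a) := by
        calc (b : G)⁻¹ * a * Z = (b : G)⁻¹ * (a * (Z * (a : G)⁻¹ * Z⁻¹)) * Z * a := by group
          _ = (b : G)⁻¹ * (b * (Z * (b : G)⁻¹ * Z⁻¹)) * Z * a := by rw [h1]
          _ = _ := by group
      exact h3.symm)
    exact Subtype.ext (inv_mul_eq_one.1 h2).symm
  intro u hu
  obtain ⟨r, hr⟩ := (Finite.injective_iff_surjective.1 hφ) ⟨u, hu⟩
  refine ⟨r, r.2, ?_⟩
  have h1 : (r : G) * (Z * (r : G)⁻¹ * Z⁻¹) = u := congrArg Subtype.val hr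
  rw [← h1]
  group

variable {F V : Type*} [Field F] [AddCommGroup V] [Module F V]

/-- `g` is a product of two isometries whose orders are prime to `N` -/
def PrB (B : LinearMap.BilinForm F V) (N : ℕ) (g : V ≃ₗ[F] V) : Prop :=
  ∃ (X Y : V ≃ₗ[F] V) (k : ℕ), Iso B X ∧ Iso B Y ∧ g = X * Y ∧ k.Coprime N ∧ X ^ k = 1 ∧ Y ^ k = 1

/-- the unipotent radical -/
def Rad (B : LinearMap.BilinForm F V) (P : Submodule F V) : Subgroup (V ≃ₗ[F] V) where
  carrier := {h | Iso B h ∧ (∀ v ∈ P, h v = v) ∧ ∀ v ∈ perp B P, h v - v ∈ P}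
  one_mem' := ⟨Iso.one B, fun _ _ => rfl, fun v _ => by
    have : (1 : V ≃ₗ[F] V) v - v = 0 := sub_self v
    rw [this]; exact P.zero_mem⟩
  mul_mem' := by
    rintro a b ⟨h1, h2, h3⟩ ⟨k1, k2, k3⟩
    refine ⟨h1.mul k1, fun v hv => ?_, fun v hv => ?_⟩
    · rw [LinearEquiv.mul_apply, k2 v hv, h2 v hv]
    · have e : (a * b) v - v = (b v - v) + (a v - v) := by
        have e2 : a (b v - v) = b v - v := h2 _ (k3 v hv)
        rw [map_sub] at e2
        rw [LinearEquiv.mul_apply, ← e2]; abel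
      rw [e]
      exact P.add_mem (k3 v hv) (h3 v hv)
  inv_mem' := by
    rintro a ⟨h1, h2, h3⟩
    have hi : ∀ v ∈ P, a⁻¹ v = v := fun v hv => by
      nth_rewrite 1 [← h2 v hv]
      rw [inv_app]
    refine ⟨h1.inv, hi, fun v hv => ?_⟩
    have hv' : a⁻¹ v ∈ perp B P := by
      intro w hw
      rw [h1.inv.adj', inv_inv, h2 w hw]
      exact hv w hw
    have h4 := h3 _ hv'
    rw [app_inv] at h4
    have := P.neg_mem h4
    rwa [neg_sub] at this

theorem mem_Rad {B : LinearMap.BilinForm F V} {P : Submodule F V} {h : V ≃ₗ[F] V} :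
    h ∈ Rad B P ↔ Iso B h ∧ (∀ v ∈ P, h v = v) ∧ ∀ v ∈ perp B P, h v - v ∈ P := Iff.rfl

theorem uni_mem_Rad {B : LinearMap.BilinForm F V} {Q : Submodule F V} (hQ : Orth B Q Q)
    {n : Module.End F V} (hn : n ∈ Skew B Q) : uni n (skew_sq hn) ∈ Rad B Q := by
  refine ⟨skew_iso hQ hn, fun v hv => ?_, fun v _ => ?_⟩
  · rw [uni_apply, hn.2.1 v hv, add_zero]
  · rw [uni_apply, add_sub_cancel_left]
    exact hn.1 v

section FD

variable [FiniteDimensional F V]

theorem Rad.conj {B : LinearMap.BilinForm F V} {P : Submodule F V} {Z : V ≃ₗ[F] V} (hZ : Iso B Z)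
    (hZP : ∀ v ∈ P, Z v ∈ P) {r : V ≃ₗ[F] V} (hr : r ∈ Rad B P) : Z * r * Z⁻¹ ∈ Rad B P := by
  obtain ⟨h1, h2, h3⟩ := hr
  have hZi := inv_mem_of_mem hZP
  refine ⟨(hZ.mul h1).mul hZ.inv, fun v hv => ?_, fun v hv => ?_⟩
  · rw [LinearEquiv.mul_apply, LinearEquiv.mul_apply, h2 _ (hZi v hv), app_inv]
  · have hv' : Z⁻¹ v ∈ perp B P := by
      intro w hw
      rw [hZ.inv.adj', inv_inv]
      exact hv _ (hZP w hw)
    have e : (Z * r * Z⁻¹) v - v = Z (r (Z⁻¹ v) - Z⁻¹ v) := by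
      rw [map_sub, app_inv]; rfl
    rw [e]
    exact hZP _ (h3 _ hv')

/-- no fixed points in the radical -/
theorem fpf_Rad {B : LinearMap.BilinForm F V} (hB : Alt B) (hN : Nond B) {P H Q : Submodule F V}
    (hQ : Orth B Q Q) (hPP : Orth B P P) (hPH : Orth B P H) (hHQ : Orth B H Q) (htop : P ⊔ (H ⊔ Q) = ⊤)
    {Z : V ≃ₗ[F] V} (f : F[X]) (hf0 : ∀ v ∈ H ⊔ Q, aeval (Z : Module.End F V) f v = 0)
    (hfi : ∀ v ∈ P, aeval (Z : Module.End F V) f v = 0 → v = 0)
    {h : V ≃ₗ[F] V} (hh : h ∈ Rad B P) (hc : Z * h = h * Z) : h = 1 := by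
  obtain ⟨h1, h2, h3⟩ := hh
  have hc' : ∀ v, h (Z v) = Z (h v) := fun v => (LinearEquiv.congr_fun hc v).symm
  have hcf : ∀ p : F[X], ∀ v, h (aeval (Z : Module.End F V) p v) = aeval (Z : Module.End F V) p (h v) := by
    intro p v
    exact comm_aeval (c := (Z : Module.End F V)) (g := (h : V →ₗ[F] V)) hc' p v
  -- on `H`
  have hH : ∀ v ∈ H, h v = v := by
    intro v hv
    have h4 : h v - v ∈ P := h3 v (fun w hw => hPH w hw v hv)
    have h5 := hfi _ h4 (by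
      rw [map_sub, ← hcf, hf0 v (Submodule.mem_sup_left hv), map_zero, sub_zero])
    exact sub_eq_zero.1 h5
  have hQQ : ∀ v ∈ Q, h v = v := by
    intro v hv
    have h4 : h v - v ∈ P := by
      have hfix : ∀ w ∈ P ⊔ H, h w = w := by
        intro w hw
        obtain ⟨a, ha, b, hb, rfl⟩ := Submodule.mem_sup.1 hw
        rw [map_add, h2 a ha, hH b hb]
      have hperp : ∀ w ∈ P ⊔ H, B w (h v - v) = 0 := by
        intro w hw
        rw [map_sub, ← h1 w v, hfix w hw, sub_self]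
      obtain ⟨p, hp, y, hy, e⟩ := Submodule.mem_sup.1 (show h v - v ∈ P ⊔ (H ⊔ Q) by rw [htop]; trivial)
      obtain ⟨a, ha, q, hq, rfl⟩ := Submodule.mem_sup.1 hy
      rw [← e] at hperp
      have hq0 : q = 0 := by
        apply hN
        intro w
        apply hB.zero
        obtain ⟨p', hp', y', hy', rfl⟩ := Submodule.mem_sup.1 (show w ∈ P ⊔ (H ⊔ Q) by rw [htop]; trivial)
        obtain ⟨a', ha', q', hq', rfl⟩ := Submodule.mem_sup.1 hy'
        have h6 := hperp p' (Submodule.mem_sup_left hp')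
        rw [map_add, map_add, hPP p' hp' p hp, hPH p' hp' a ha, zero_add, zero_add] at h6
        simp only [map_add, LinearMap.add_apply]
        rw [h6, hHQ a' ha' q hq, hQ q' hq' q hq]
        simp
      have ha0 : a = 0 := by
        apply hN
        intro w
        apply hB.zero
        obtain ⟨p', hp', y', hy', rfl⟩ := Submodule.mem_sup.1 (show w ∈ P ⊔ (H ⊔ Q) by rw [htop]; trivial)
        obtain ⟨a', ha', q', hq', rfl⟩ := Submodule.mem_sup.1 hy'
        have h6 := hperp a' (Submodule.mem_sup_right ha')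
        rw [hq0, add_zero, map_add, hB.zero (hPH p hp a' ha'), zero_add] at h6
        simp only [map_add, LinearMap.add_apply]
        rw [h6, hPH p' hp' a ha, hB.zero (hHQ a ha q' hq')]
        simp
      rw [← e, ha0, hq0]
      simpa using hp
    have h5 := hfi _ h4 (by
      rw [map_sub, ← hcf, hf0 v (Submodule.mem_sup_right hv), map_zero, sub_zero])
    exact sub_eq_zero.1 h5
  ext v
  obtain ⟨p', hp', y', hy', rfl⟩ := Submodule.mem_sup.1 (show v ∈ P ⊔ (H ⊔ Q) by rw [htop]; trivial)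
  obtain ⟨a', ha', q', hq', rfl⟩ := Submodule.mem_sup.1 hy'
  rw [map_add, map_add, h2 p' hp', hH a' ha', hQQ q' hq']
  rfl

theorem pow_conj (a r : V ≃ₗ[F] V) (k : ℕ) (h : a ^ k = 1) : (r * a * r⁻¹) ^ k = 1 := by
  rw [conj_pow, h, mul_one, mul_inv_cancel]

variable [Finite F]

theorem finite_lequiv (F V : Type*) [Field F] [AddCommGroup V] [Module F V] [FiniteDimensional F V]
    [Finite F] : Finite (V ≃ₗ[F] V) := by
  have : Finite V := Module.finite_of_finite F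
  exact Finite.of_injective (fun g : V ≃ₗ[F] V => (g : V → V)) DFunLike.coe_injective

/-- **The engine.** -/
theorem prB_levi {B : LinearMap.BilinForm F V} (hB : Alt B) (hN : Nond B) {P H Q : Submodule F V}
    (hP : Orth B P P) (hQ : Orth B Q Q) (hPH : Orth B P H) (hHQ : Orth B H Q) (htop : P ⊔ (H ⊔ Q) = ⊤)
    {X Y : V ≃ₗ[F] V} (hX : Iso B X) (hY : Iso B Y) (hXQ : ∀ v ∈ Q, X v ∈ Q) (hYP : ∀ v ∈ P, Y v ∈ P)
    (fX fY : F[X]) (hX0 : ∀ v ∈ P ⊔ H, aeval (X : Module.End F V) fX v = 0)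
    (hXi : ∀ v ∈ Q, aeval (X : Module.End F V) fX v = 0 → v = 0)
    (hY0 : ∀ v ∈ H ⊔ Q, aeval (Y : Module.End F V) fY v = 0)
    (hYi : ∀ v ∈ P, aeval (Y : Module.End F V) fY v = 0 → v = 0)
    {k N : ℕ} (hkN : k.Coprime N) (hXk : X ^ k = 1) (hYk : Y ^ k = 1)
    {u u' : V ≃ₗ[F] V} (hu : u ∈ Rad B Q) (hu' : u' ∈ Rad B P) : PrB B N (u * (X * Y) * u') := by
  have := finite_lequiv F V
  obtain ⟨r, hr, er⟩ := conj_of_fpf (Rad B Q) X (fun r hr => Rad.conj hX hXQ hr)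
    (fun r hr hc => fpf_Rad hB hN (P := Q) (H := H) (Q := P) hP hQ (hHQ.symm hB) (hPH.symm hB)
      (by rw [← htop]; ac_rfl) fX (fun v hv => hX0 v (by rwa [sup_comm] at hv)) hXi hr hc) u hu
  obtain ⟨s, hs, es⟩ := conj_of_fpf (Rad B P) Y⁻¹
    (fun r hr => Rad.conj hY.inv (inv_mem_of_mem hYP) hr)
    (fun r hr hc => fpf_Rad hB hN hQ hP hPH hHQ htop fY hY0 hYi hr (by
      have h1 : r * Y = Y * r := by
        calc r * Y = Y * (Y⁻¹ * r) * Y := by group
          _ = Y * (r * Y⁻¹) * Y := by rw [hc]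
          _ = _ := by group
      exact h1.symm)) u'⁻¹ (Subgroup.inv_mem _ hu')
  have es' : Y * u' = s * Y * s⁻¹ := by
    have := congrArg (fun t => t⁻¹) es
    simp only [mul_inv_rev, inv_inv] at this
    rw [this]
    group
  refine ⟨r * X * r⁻¹, s * Y * s⁻¹, k, ((mem_Rad.1 hr).1.mul hX).mul (mem_Rad.1 hr).1.inv,
    ((mem_Rad.1 hs).1.mul hY).mul (mem_Rad.1 hs).1.inv, ?_, hkN, pow_conj X r k hXk, pow_conj Y s k hYk⟩
  rw [← er, ← es']
  group

end FD

end Cfsg.Agent.H649.PwSp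
end
end

-- part: H649/PwSp/Corner
section
/-!
# Corners

* `levi_ext` : extend `x ∈ GL(P)` by its contragredient on `Q` and the identity on `(P ⊔ Q)^⊥`.
* `prB_corner`, `prB_c1` : `u u'` is a product of conjugates of `X` and `X⁻¹`.
* `PrB.glue`.
-/

set_option autoImplicit false
open Polynomial

noncomputable section

namespace Cfsg.Agent.H649.PwSp

open Cfsg.Agent.H144

variable {F V : Type*} [Field F] [AddCommGroup V] [Module F V] [FiniteDimensional F V]

theorem levi_ext {B : LinearMap.BilinForm F V} (hB : Alt B) {P Q : Submodule F V}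
    (hP : Orth B P P) (hQ : Orth B Q Q) (hNd : Nd B (P ⊔ Q)) (x : P ≃ₗ[F] P) :
    ∃ X : V ≃ₗ[F] V, Iso B X ∧ (∀ v : P, X v = x v) ∧ (∀ v ∈ Q, X v ∈ Q) ∧
      ∀ v ∈ perp B (P ⊔ Q), X v = v := by
  set W := P ⊔ Q with hW
  have hPW : P ≤ W := le_sup_left
  have hQW : Q ≤ W := le_sup_right
  let P' := P.comap W.subtype
  let Q' := Q.comap W.subtype
  let e : P' ≃ₗ[F] P := Submodule.comapSubtypeEquivOfLe hPW
  have he : ∀ v : P', ((e v : P) : V) = ((v : W) : V) := fun v => rfl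
  have hes : ∀ v : P, (((e.symm v : P') : W) : V) = v := fun v => rfl
  have htop : P' ⊔ Q' = ⊤ := by
    rw [eq_top_iff]
    rintro ⟨v, hv⟩ _
    obtain ⟨a, ha, b, hb, rfl⟩ := Submodule.mem_sup.1 (by rw [hW] at hv; exact hv)
    exact Submodule.mem_sup.2 ⟨⟨a, hPW ha⟩, ha, ⟨b, hQW hb⟩, hb, rfl⟩
  obtain ⟨X₁, hX₁, hXx, hXQ⟩ := levi (restrict_alt hB W) (restrict_nond hNd) (P := P') (Q := Q')
    (fun a ha b hb => hP a ha b hb) (fun a ha b hb => hQ a ha b hb) htop (e.trans (x.trans e.symm))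
  obtain ⟨X, hX, hXX, hXp⟩ := ext_iso hB hNd hX₁
  refine ⟨X, hX, fun v => ?_, fun v hv => ?_, hXp⟩
  · have h1 := hXX ⟨v, hPW v.2⟩
    have h2 := hXx ⟨⟨v, hPW v.2⟩, v.2⟩
    rw [h1]
    have h3 := congrArg (fun w : W => (w : V)) h2
    exact h3
  · have h1 := hXX ⟨v, hQW hv⟩
    rw [h1]
    exact hXQ ⟨v, hQW hv⟩ hv

theorem levi_inv_apply {P : Submodule F V} {x : P ≃ₗ[F] P} {X : V ≃ₗ[F] V} (hXx : ∀ v : P, X v = x v)
    (v : P) : X⁻¹ v = (x⁻¹ v : P) := by
  have h1 := hXx (x⁻¹ v)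
  rw [app_inv] at h1
  rw [← h1, inv_app]

/-- an isometry which fixes `P`, preserves `Q` and fixes `(P ⊔ Q)^⊥` is the identity -/
theorem levi_ext_unique {B : LinearMap.BilinForm F V} (hB : Alt B) {P Q : Submodule F V}
    (hQ : Orth B Q Q) (hNd : Nd B (P ⊔ Q)) {D : V ≃ₗ[F] V} (hD : Iso B D)
    (hDQ : ∀ v ∈ Q, D v ∈ Q) (hDP : ∀ v ∈ P, D v = v) (hDp : ∀ v ∈ perp B (P ⊔ Q), D v = v) : D = 1 := by
  ext v
  obtain ⟨y, hy, h, hh, rfl⟩ := Submodule.mem_sup.1 (show v ∈ (P ⊔ Q) ⊔ perp B (P ⊔ Q) by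
    rw [sup_perp hB hNd]; trivial)
  obtain ⟨p, hp, q, hq, rfl⟩ := Submodule.mem_sup.1 hy
  have : D q - q = 0 := by
    have hqq : D q - q ∈ Q := Q.sub_mem (hDQ q hq) hq
    apply hNd _ (Submodule.mem_sup_right hqq)
    intro w hw
    obtain ⟨a, ha, b, hb, rfl⟩ := Submodule.mem_sup.1 hw
    rw [map_add, hQ _ hqq b hb, add_zero, map_sub, LinearMap.sub_apply, sub_eq_zero]
    nth_rewrite 1 [← hDP a ha]
    exact hD q a
  rw [map_add, map_add, hDp h hh, hDP p hp, sub_eq_zero.1 this]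
  rfl

theorem aeval_fix {X : V ≃ₗ[F] V} {v : V} (h : X v = v) (f : F[X]) :
    aeval (X : Module.End F V) f v = f.eval 1 • v := by
  induction f using Polynomial.induction_on' with
  | add p q hp hq => simp only [map_add, LinearMap.add_apply, hp, hq, eval_add, add_smul]
  | monomial k a =>
    have hk : ∀ k : ℕ, ((X : Module.End F V) ^ k) v = v := by
      intro k
      induction k with
      | zero => simp
      | succ k ih =>
        rw [pow_succ', Module.End.mul_apply, ih]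
        exact h
    simp only [aeval_monomial, Module.algebraMap_end_eq_smul_id, Module.End.mul_apply, LinearMap.smul_apply,
      LinearMap.id_apply, hk, eval_monomial, one_pow, mul_one]

variable [Finite F]

/-- **The corner.** -/
theorem prB_corner {B : LinearMap.BilinForm F V} (hB : Alt B) (hN : Nond B) {P Q : Submodule F V}
    (hP : Orth B P P) (hQ : Orth B Q Q) (hNd : Nd B (P ⊔ Q)) {x : P ≃ₗ[F] P} (f : F[X])
    (hf : ∀ v, aeval (x : Module.End F P) f v = 0)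
    (hfi : ∀ v, aeval ((x⁻¹ : P ≃ₗ[F] P) : Module.End F P) f v = 0 → v = 0)
    (h1 : P ⊔ Q = ⊤ ∨ ∀ v, x v = v → v = 0) {k N : ℕ} (hkN : k.Coprime N) (hxk : x ^ k = 1)
    {u u' : V ≃ₗ[F] V} (hu : u ∈ Rad B Q) (hu' : u' ∈ Rad B P) : PrB B N (u * u') := by
  obtain ⟨X, hX, hXx, hXQ, hXp⟩ := levi_ext hB hP hQ hNd x
  have hXi := levi_inv_apply hXx
  have hXP : ∀ v ∈ P, X v ∈ P := fun v hv => by rw [hXx ⟨v, hv⟩]; exact (x ⟨v, hv⟩).2
  have hXp' : ∀ v ∈ perp B (P ⊔ Q), X⁻¹ v = v := fun v hv => by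
    nth_rewrite 1 [← hXp v hv]
    rw [inv_app]
  have hXQi := inv_mem_of_mem hXQ
  have hXPi := inv_mem_of_mem hXP
  have hzero : ∀ v ∈ Q, (∀ w ∈ P, B w v = 0) → v = 0 := by
    intro v hv h0
    apply hNd v (Submodule.mem_sup_right hv)
    intro w hw
    obtain ⟨a, ha, b, hb, rfl⟩ := Submodule.mem_sup.1 hw
    rw [map_add, hQ v hv b hb, hB.zero (h0 a ha), add_zero]
  -- powers
  have hpow : ∀ j : ℕ, ∀ v : P, (X ^ j) v = ((x ^ j) v : P) := by
    intro j
    induction j with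
    | zero => intro v; rfl
    | succ j ih =>
      intro v
      rw [pow_succ', LinearEquiv.mul_apply, ih, hXx, pow_succ', LinearEquiv.mul_apply]
  have hpowQ : ∀ j : ℕ, ∀ v ∈ Q, (X ^ j) v ∈ Q := by
    intro j
    induction j with
    | zero => intro v hv; exact hv
    | succ j ih =>
      intro v hv
      rw [pow_succ', LinearEquiv.mul_apply]
      exact hXQ _ (ih v hv)
  have hpowp : ∀ j : ℕ, ∀ v ∈ perp B (P ⊔ Q), (X ^ j) v = v := by
    intro j
    induction j with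
    | zero => intro v hv; rfl
    | succ j ih =>
      intro v hv
      rw [pow_succ', LinearEquiv.mul_apply, ih v hv, hXp v hv]
  have hpowI : ∀ j : ℕ, Iso B (X ^ j) := by
    intro j
    induction j with
    | zero => exact Iso.one B
    | succ j ih => rw [pow_succ']; exact hX.mul ih
  have hXk : X ^ k = 1 := levi_ext_unique hB hQ hNd (hpowI k) (hpowQ k)
    (fun v hv => by rw [hpow k ⟨v, hv⟩, hxk]; rfl) (hpowp k)
  have hYk : (X⁻¹) ^ k = 1 := by rw [inv_pow, hXk, inv_one]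
  -- polynomials on `P`
  have hfP : ∀ v ∈ P, aeval (X : Module.End F V) f v = 0 := by
    intro v hv
    rw [aeval_restrict (X := (X : Module.End F V)) (x := (x : Module.End F P)) hXx f ⟨v, hv⟩, hf]
    rfl
  have hfQ : ∀ v ∈ Q, aeval (X : Module.End F V) f v = 0 → v = 0 := by
    intro v hv h0
    apply hzero v hv
    intro w hw
    have hinj : Function.Injective (aeval ((x⁻¹ : P ≃ₗ[F] P) : Module.End F P) f) := by
      rw [← LinearMap.ker_eq_bot, LinearMap.ker_eq_bot']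
      exact hfi
    obtain ⟨w', hw'⟩ := (LinearMap.injective_iff_surjective.1 hinj) ⟨w, hw⟩
    have h2 := aeval_adj hX f (w' : V) v
    have h3 := aeval_restrict (X := ((X⁻¹ : V ≃ₗ[F] V) : Module.End F V))
      (x := ((x⁻¹ : P ≃ₗ[F] P) : Module.End F P)) hXi f w'
    rw [h0, map_zero, h3, hw'] at h2
    exact h2.symm
  have hYQ : ∀ v ∈ Q, aeval ((X⁻¹ : V ≃ₗ[F] V) : Module.End F V) f v = 0 := by
    intro v hv
    apply hzero _ (aeval_mem (X := ((X⁻¹ : V ≃ₗ[F] V) : Module.End F V)) hXQi f v hv)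
    intro w hw
    have h2 := aeval_adj hX.inv f w v
    rw [inv_inv, hfP w hw, map_zero, LinearMap.zero_apply] at h2
    exact h2
  have hYP : ∀ v ∈ P, aeval ((X⁻¹ : V ≃ₗ[F] V) : Module.End F V) f v = 0 → v = 0 := by
    intro v hv h0
    have h3 := aeval_restrict (X := ((X⁻¹ : V ≃ₗ[F] V) : Module.End F V))
      (x := ((x⁻¹ : P ≃ₗ[F] P) : Module.End F P)) hXi f ⟨v, hv⟩
    rw [h3] at h0
    exact congrArg Subtype.val (hfi ⟨v, hv⟩ (Subtype.ext h0))
  have hPH : Orth B P (perp B (P ⊔ Q)) := fun a ha b hb => hb a (Submodule.mem_sup_left ha)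
  have hHQ : Orth B (perp B (P ⊔ Q)) Q := fun a ha b hb => hB.zero (ha b (Submodule.mem_sup_right hb))
  have htop : P ⊔ (perp B (P ⊔ Q) ⊔ Q) = ⊤ := by
    rw [← sup_perp hB hNd]; ac_rfl
  have hmul : ∀ (Z : V ≃ₗ[F] V) (p q : F[X]) (v : V), aeval (Z : Module.End F V) (p * q) v =
      aeval (Z : Module.End F V) p (aeval (Z : Module.End F V) q v) := by
    intro Z p q v
    rw [map_mul, Module.End.mul_apply]
  have hval : ∀ (Z : V ≃ₗ[F] V) (v : V), aeval (Z : Module.End F V) (Polynomial.X - 1 : F[X]) v = Z v - v := by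
    intro Z v
    rw [map_sub, aeval_X, map_one]
    rfl
  have hmain : u * u' = u * (X * X⁻¹) * u' := by group
  rw [hmain]
  rcases h1 with h1 | h1
  · have hH0 : ∀ v ∈ perp B (P ⊔ Q), v = 0 := by
      intro v hv
      apply hN v
      intro w
      exact hB.zero (hv w (by rw [h1]; trivial))
    refine prB_levi hB hN hP hQ hPH hHQ htop hX hX.inv hXQ hXPi f f ?_ hfQ ?_ hYP hkN hXk hYk hu hu'
    · intro v hv
      obtain ⟨a, ha, b, hb, rfl⟩ := Submodule.mem_sup.1 hv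
      rw [hH0 b hb, add_zero, hfP a ha]
    · intro v hv
      obtain ⟨a, ha, b, hb, rfl⟩ := Submodule.mem_sup.1 hv
      rw [hH0 a ha, zero_add, hYQ b hb]
  · have hx1 : ∀ w : P, ∃ w' : P, x w' - w' = w := by
      have hinj : Function.Injective ((x : P →ₗ[F] P) - LinearMap.id : P →ₗ[F] P) := by
        rw [← LinearMap.ker_eq_bot, LinearMap.ker_eq_bot']
        intro v hv
        exact h1 v (sub_eq_zero.1 hv)
      intro w
      obtain ⟨w', hw'⟩ := (LinearMap.injective_iff_surjective.1 hinj) w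
      exact ⟨w', hw'⟩
    have hfixQ : ∀ v ∈ Q, X v = v → v = 0 := by
      intro v hv h0
      apply hzero v hv
      intro w hw
      obtain ⟨w', hw'⟩ := hx1 ⟨w, hw⟩
      have h2 : X (w' : V) - (w' : V) = w := by rw [hXx]; exact congrArg Subtype.val hw'
      rw [← h2, map_sub, LinearMap.sub_apply, sub_eq_zero]
      nth_rewrite 1 [← h0]
      exact hX _ _
    have hfixP : ∀ v ∈ P, X v = v → v = 0 := by
      intro v hv h0
      exact congrArg Subtype.val (h1 ⟨v, hv⟩ (Subtype.ext (by rw [← hXx]; exact h0)))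
    refine prB_levi hB hN hP hQ hPH hHQ htop hX hX.inv hXQ hXPi (f * (Polynomial.X - 1)) (f * (Polynomial.X - 1))
      ?_ ?_ ?_ ?_ hkN hXk hYk hu hu'
    · intro v hv
      obtain ⟨a, ha, b, hb, rfl⟩ := Submodule.mem_sup.1 hv
      have h2 : aeval (X : Module.End F V) (f * (Polynomial.X - 1)) b = 0 := by
        rw [hmul, hval, hXp b hb, sub_self, map_zero]
      have h3 : aeval (X : Module.End F V) (f * (Polynomial.X - 1)) a = 0 := by
        rw [hmul, hval]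
        exact hfP _ (P.sub_mem (hXP a ha) ha)
      rw [map_add, h2, h3, add_zero]
    · intro v hv h0
      rw [hmul, hval] at h0
      have h2 := hfQ _ (Q.sub_mem (hXQ v hv) hv) h0
      exact hfixQ v hv (sub_eq_zero.1 h2)
    · intro v hv
      obtain ⟨a, ha, b, hb, rfl⟩ := Submodule.mem_sup.1 hv
      have h2 : aeval ((X⁻¹ : V ≃ₗ[F] V) : Module.End F V) (f * (Polynomial.X - 1)) a = 0 := by
        rw [hmul, hval, hXp' a ha, sub_self, map_zero]
      have h3 : aeval ((X⁻¹ : V ≃ₗ[F] V) : Module.End F V) (f * (Polynomial.X - 1)) b = 0 := by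
        rw [hmul, hval]
        exact hYQ _ (Q.sub_mem (hXQi b hb) hb)
      rw [map_add, h2, h3, add_zero]
    · intro v hv h0
      rw [hmul, hval] at h0
      have h2 := hYP _ (P.sub_mem (hXPi v hv) hv) h0
      have h3 : X⁻¹ v = v := sub_eq_zero.1 h2
      apply hfixP v hv
      nth_rewrite 1 [← h3]
      exact app_inv X v

/-- the case `P ⊔ Q = ⊤`, from `C1` data -/
theorem prB_c1 {B : LinearMap.BilinForm F V} (hB : Alt B) (hN : Nond B) {N : ℕ} {g : V ≃ₗ[F] V} (hg : Iso B g)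
    {P Q : Submodule F V} (hP : Orth B P P) (hQ : Orth B Q Q) (hPQ : P ⊔ Q = ⊤) (h : ∀ v ∈ P, g v - v ∈ Q)
    {x : P ≃ₗ[F] P} (f : F[X]) (hf : ∀ v, aeval (x : Module.End F P) f v = 0)
    (hfi : ∀ v, aeval ((x⁻¹ : P ≃ₗ[F] P) : Module.End F P) f v = 0 → v = 0)
    {k : ℕ} (hkN : k.Coprime N) (hxk : x ^ k = 1) : PrB B N g := by
  obtain ⟨n, m, hn, hm, e⟩ := c1_factor hB hN hP hQ hPQ hg h
  rw [e]
  exact prB_corner hB hN hP hQ (fun v _ h => hN v (fun w => h w (by rw [hPQ]; trivial))) f hf hfi (Or.inl hPQ)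
    hkN hxk (uni_mem_Rad hQ hn) (uni_mem_Rad hP hm)

theorem nd_perp {B : LinearMap.BilinForm F V} (hB : Alt B) (hN : Nond B) {P : Submodule F V} (hP : Nd B P) :
    Nd B (perp B P) := by
  intro v hv h0
  apply hN
  intro w
  obtain ⟨a, ha, b, hb, rfl⟩ := Submodule.mem_sup.1 (show w ∈ P ⊔ perp B P by rw [sup_perp hB hP]; trivial)
  rw [map_add, h0 b hb, hB.zero (hv a ha), add_zero]

theorem inv_perp {B : LinearMap.BilinForm F V} {g : V ≃ₗ[F] V} (hg : Iso B g) {P : Submodule F V}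
    (hI : _root_.Cfsg.Agent.H144.Inv g P) : _root_.Cfsg.Agent.H144.Inv g (perp B P) := by
  intro v hv w hw
  rw [hg.adj']
  exact hv _ (inv_mem_of_mem hI w hw)

/-- **Orthogonal sums.** -/
theorem PrB.glue {B : LinearMap.BilinForm F V} (hB : Alt B) (hN : Nond B) {N : ℕ} {g : V ≃ₗ[F] V}
    {P : Submodule F V} (hP : Nd B P) (hI : _root_.Cfsg.Agent.H144.Inv g P) (hI' : _root_.Cfsg.Agent.H144.Inv g (perp B P))
    (h1 : PrB (B.restrict P) N (gr g P hI)) (h2 : PrB (B.restrict (perp B P)) N (gr g (perp B P) hI')) :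
    PrB B N g := by
  obtain ⟨x, y, k, hx, hy, exy, hk, hxk, hyk⟩ := h1
  obtain ⟨x', y', k', hx', hy', exy', hk', hxk', hyk'⟩ := h2
  have hP' := nd_perp hB hN hP
  have hpp : ∀ v ∈ P, v ∈ perp B (perp B P) := fun v hv w hw => hB.zero (hw v hv)
  obtain ⟨X, hX, hXx, hXp⟩ := ext_iso hB hP hx
  obtain ⟨Y, hY, hYy, hYp⟩ := ext_iso hB hP hy
  obtain ⟨X', hX', hXx', hXp'⟩ := ext_iso hB hP' hx'
  obtain ⟨Y', hY', hYy', hYp'⟩ := ext_iso hB hP' hy'
  have htop := sup_perp hB hP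
  -- `(X X')^j` on both summands
  have key : ∀ (x : P ≃ₗ[F] P) (x' : (perp B P : Submodule F V) ≃ₗ[F] (perp B P : Submodule F V)) (X X' : V ≃ₗ[F] V),
      (∀ v : P, X v = x v) → (∀ v ∈ perp B P, X v = v) → (∀ v : (perp B P : Submodule F V), X' v = x' v) →
      (∀ v ∈ perp B (perp B P), X' v = v) → ∀ j : ℕ, (∀ v : P, ((X * X') ^ j) v = ((x ^ j) v : P)) ∧
      ∀ v : (perp B P : Submodule F V), ((X * X') ^ j) v = ((x' ^ j) v : (perp B P : Submodule F V)) := by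
    intro x x' X X' h1 h2 h3 h4 j
    induction j with
    | zero => exact ⟨fun v => rfl, fun v => rfl⟩
    | succ j ih =>
      refine ⟨fun v => ?_, fun v => ?_⟩
      · rw [pow_succ', LinearEquiv.mul_apply, ih.1, LinearEquiv.mul_apply, h4 _ (hpp _ (Subtype.prop _)), h1,
          pow_succ', LinearEquiv.mul_apply]
      · rw [pow_succ', LinearEquiv.mul_apply, ih.2, LinearEquiv.mul_apply, h3, h2 _ (Subtype.prop _),
          pow_succ', LinearEquiv.mul_apply]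
  have ext1 : ∀ D : V ≃ₗ[F] V, (∀ v ∈ P, D v = v) → (∀ v ∈ perp B P, D v = v) → D = 1 := by
    intro D h3 h4
    ext v
    obtain ⟨a, ha, b, hb, rfl⟩ := Submodule.mem_sup.1 (show v ∈ P ⊔ perp B P by rw [htop]; trivial)
    rw [map_add, h3 a ha, h4 b hb]
    rfl
  have hkk : ∀ {G : Type _} [Group G] (a : G) (k k' : ℕ), a ^ k = 1 → a ^ (k * k') = 1 := by
    intro G _ a k k' h
    rw [pow_mul, h, one_pow]
  refine ⟨X * X', Y * Y', k * k', hX.mul hX', hY.mul hY', ?_, Nat.Coprime.mul_left hk hk', ?_, ?_⟩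
  · have : (X * X' * (Y * Y'))⁻¹ * g = 1 := by
      apply ext1
      · intro v hv
        have h3 : (X * X' * (Y * Y')) v = g v := by
          rw [LinearEquiv.mul_apply, LinearEquiv.mul_apply, LinearEquiv.mul_apply, hYp' v (hpp v hv),
            hYy ⟨v, hv⟩, hXp' _ (hpp _ (Subtype.prop _)), hXx, ← gr_apply g P hI ⟨v, hv⟩, exy]
          rfl
        rw [LinearEquiv.mul_apply, ← h3, inv_app]
      · intro v hv
        have h3 : (X * X' * (Y * Y')) v = g v := by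
          rw [LinearEquiv.mul_apply, LinearEquiv.mul_apply, LinearEquiv.mul_apply, hYy' ⟨v, hv⟩,
            hYp _ (Subtype.prop _), hXx', hXp _ (Subtype.prop _), ← gr_apply g (perp B P) hI' ⟨v, hv⟩, exy']
          rfl
        rw [LinearEquiv.mul_apply, ← h3, inv_app]
    rw [inv_mul_eq_one] at this
    exact this.symm
  · have h3 := key x x' X X' hXx hXp hXx' hXp' (k * k')
    apply ext1
    · intro v hv
      rw [h3.1 ⟨v, hv⟩, hkk x k k' hxk]; rfl
    · intro v hv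
      rw [h3.2 ⟨v, hv⟩, mul_comm k k', hkk x' k' k hxk']; rfl
  · have h3 := key y y' Y Y' hYy hYp hYy' hYp' (k * k')
    apply ext1
    · intro v hv
      rw [h3.1 ⟨v, hv⟩, hkk y k k' hyk]; rfl
    · intro v hv
      rw [h3.2 ⟨v, hv⟩, mul_comm k k', hkk y' k' k hyk']; rfl

end Cfsg.Agent.H649.PwSp
end
end
end

-- part: H85/Pw/PThree
section
prune_inst 0x10054000040020000008080010000000000018000088000004000400000c00200800000140010008008000040000000000001a0402000000a0004000002000000800000b008000004001e000080000000000000000000000000000000000004000000000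
set_option linter.all false
open scoped Cfsg.Agent.FastGrp

/-!
# `SL_3(4)`: products of two elements of order `7` (S2465)

* `Gd` : `l = X * Y`, the characteristic polynomials of `X`, `Y` are `cu s r` or `cu r s`;
* `gd_reducible` : `l` with an eigenvalue, `1` or not scalar;
* `p_three_four` : `|K| = 4`, `L * U = X * Y`, `X`, `Y` irreducible of order `7`.
-/

set_option autoImplicit false

namespace Cfsg.Agent.H85.Pw.PThree

open Matrix Polynomial
open Cfsg.Agent.H126.M3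

universe u

variable {K : Type u} [Field K]

/-- `l` is a product of two elements with characteristic polynomials `cu s r`, `cu r s` -/
def Gd (s r : K) (l : Matrix (Fin 3) (Fin 3) K) : Prop :=
  ∃ X Y : Matrix (Fin 3) (Fin 3) K, X.det = 1 ∧ Y.det = 1 ∧ l = X * Y ∧
    (X.charpoly = cu s r ∨ X.charpoly = cu r s) ∧ (Y.charpoly = cu s r ∨ Y.charpoly = cu r s)

theorem Gd.conj {s r : K} {l l' R : Matrix (Fin 3) (Fin 3) K} (h : Gd s r l') (hR : R.det ≠ 0) (hl : l * R = R * l') :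
    Gd s r l := by
  obtain ⟨X, Y, hX, hY, rfl, hXc, hYc⟩ := h
  have hu : IsUnit R.det := isUnit_iff_ne_zero.2 hR
  have h1 : R * R⁻¹ = 1 := Matrix.mul_nonsing_inv _ hu
  have h2 : R⁻¹ * R = 1 := Matrix.nonsing_inv_mul _ hu
  let U : (Matrix (Fin 3) (Fin 3) K)ˣ := ⟨R, R⁻¹, h1, h2⟩
  have hc : ∀ M : Matrix (Fin 3) (Fin 3) K, (R * M * R⁻¹).charpoly = M.charpoly := fun M =>
    Matrix.charpoly_units_conj U M
  have hd : ∀ M : Matrix (Fin 3) (Fin 3) K, (R * M * R⁻¹).det = M.det := fun M => Matrix.det_units_conj U M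
  refine ⟨R * X * R⁻¹, R * Y * R⁻¹, by rw [hd, hX], by rw [hd, hY], ?_, by rw [hc]; exact hXc, by rw [hc]; exact hYc⟩
  calc l = l * R * R⁻¹ := by rw [mul_assoc, h1, mul_one]
    _ = R * X * (R⁻¹ * R) * Y * R⁻¹ := by rw [hl, h2]; simp only [mul_assoc, one_mul]
    _ = _ := by simp only [mul_assoc]

theorem co2 (a b c : K) : (X ^ 3 - C a * X ^ 2 + C b * X - C c : K[X]).coeff 2 = -a := by
  simp only [_root_.Polynomial.coeff_sub, _root_.Polynomial.coeff_add, _root_.Polynomial.coeff_X_pow, _root_.Nat.reduceEqDiff, ↓ _root_.reduceIte, _root_.Polynomial.coeff_C_mul, _root_.mul_one, _root_.zero_sub, _root_.Polynomial.coeff_mul_X, _root_.Polynomial.coeff_C_succ, _root_.add_zero, _root_.sub_zero]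

theorem co1 (a b c : K) : (X ^ 3 - C a * X ^ 2 + C b * X - C c : K[X]).coeff 1 = b := by
  simp [coeff_C, coeff_X_pow]

/-- the characteristic polynomial of the inverse -/
theorem charpoly_of_inv {s r : K} {M M' : Matrix (Fin 3) (Fin 3) K} (hM : M.det = 1) (h : M.charpoly = cu s r)
    (h1 : M' * M = 1) : M'.charpoly = cu r s := by
  have h2 : M * M.adjugate = 1 := by rw [Matrix.mul_adjugate, hM, one_smul]
  have h3 : M' = M.adjugate := by
    calc M' = M' * (M * M.adjugate) := by rw [h2, mul_one]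
      _ = M.adjugate := by rw [← mul_assoc, h1, one_mul]
  have h4 : M.adjugate.det = 1 := by rw [Matrix.det_adjugate, hM, one_pow]
  have h0 := charpoly_three M
  rw [h, cu, hM] at h0
  have e1 := congrArg (fun p : K[X] => p.coeff 2) h0
  have e2 := congrArg (fun p : K[X] => p.coeff 1) h0
  simp only [co2, co1, neg_inj] at e1 e2
  rw [Matrix.det_fin_three] at hM
  rw [h3, charpoly_three, h4, cu, Matrix.adjugate_fin_three]
  simp only [Matrix.of_apply, Matrix.cons_val', Matrix.cons_val_zero, Matrix.cons_val_one, Matrix.cons_val]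
  congr 3
  · congr 1
    congr 1
    rw [e2]
    ring
  · congr 1
    rw [e1]
    linear_combination (M 0 0 + M 1 1 + M 2 2) * hM

/-! ### the unipotent cases -/

theorem gd_cU {c : K} (hc : c ^ 3 = 1) {r s a b w : K} (h1 : a + b = c ^ 2 * s - r)
    (hw : w = a * (b + r) + s - c * r) : Gd s r (c • Um a b w) := by
  refine ⟨Zi r s, c • (Zm r s * Um a b w), det_Zi r s, det_Y hc r s a b w, ?_, Or.inl (charpoly_Zi r s),
    Or.inl (charpoly_Y hc h1 hw)⟩
  rw [Matrix.mul_smul, ← mul_assoc, Zi_mul, one_mul]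

theorem gd_of_sim {s r : K} {N M : Matrix (Fin 3) (Fin 3) K} {c : K} (h : Gd s r (c • (1 + M)))
    (hs : ∃ R : Matrix (Fin 3) (Fin 3) K, R.det ≠ 0 ∧ N * R = R * M) : Gd s r (c • (1 + N)) := by
  obtain ⟨R, hR, h1⟩ := hs
  refine h.conj hR ?_
  rw [Matrix.smul_mul, Matrix.mul_smul, add_mul, mul_add, h1, one_mul, mul_one]

theorem gd_tr {N : Matrix (Fin 3) (Fin 3) K} (h2 : N ^ 2 = 0) (h1 : N ≠ 0) {c : K} (hc : c ^ 3 = 1) {s r : K}
    (hroot : ∀ x, (cu s r).eval x ≠ 0) : Gd s r (c • (1 + N)) := by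
  have hσ := sigma_ne hc hroot
  have hg := gd_cU hc (r := r) (s := s) (a := c ^ 2 * s - r) (b := 0)
    (w := (c ^ 2 * s - r) * (0 + r) + s - c * r) (by ring) rfl
  rw [Um_eq] at hg
  refine gd_of_sim hg ?_
  obtain ⟨P, hP, hP'⟩ := sim_tr h2 h1
  obtain ⟨Q, hQ, hQ'⟩ := sim_tr (K := K)
    (N := !![0, c ^ 2 * s - r, (c ^ 2 * s - r) * (0 + r) + s - c * r; 0, 0, 0; 0, 0, 0]) (by
      rw [pow_two]
      ext i j
      (revert i j; simp only [Matrix.mul_apply, Fin.sum_univ_three, _root_.Fin.forall_fin_succ, _root_.zero_add, _root_.Matrix.of_apply, _root_.Matrix.cons_val', _root_.Matrix.cons_val_fin_one, Fin.isValue, _root_.Matrix.cons_val_zero, _root_.Matrix.cons_val_one, _root_.Matrix.cons_val, _root_.Matrix.zero_apply, _root_.MulZeroClass.mul_zero, _root_.add_zero, _root_.Matrix.cons_val_succ, _root_.mul_eq_zero, _root_.forall_const, _root_.true_and, _root_.true_or, _root_.and_self, _root_.implies_true])) (by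
      intro h
      apply hσ
      have := congrFun (congrFun h 0) 1
      simpa only [_root_.zero_add, _root_.Fin.isValue, _root_.Matrix.of_apply, _root_.Matrix.cons_val', _root_.Matrix.cons_val_one, _root_.Matrix.cons_val_zero, _root_.Matrix.cons_val_fin_one, _root_.Matrix.zero_apply] using this)
  exact sim_trans hP hP' hQ hQ'

theorem gd_reg {N : Matrix (Fin 3) (Fin 3) K} (h3 : N ^ 3 = 0) (h2 : N ^ 2 ≠ 0) {c : K} (hc : c ^ 3 = 1) {s r : K}
    (hK : ∀ x : K, ∃ a : K, a ≠ 0 ∧ a ≠ x) : Gd s r (c • (1 + N)) := by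
  obtain ⟨a, ha, ha'⟩ := hK (c ^ 2 * s - r)
  have hb : c ^ 2 * s - r - a ≠ 0 := sub_ne_zero.2 ha'.symm
  have hg := gd_cU hc (r := r) (s := s) (a := a) (b := c ^ 2 * s - r - a)
    (w := a * (c ^ 2 * s - r - a + r) + s - c * r) (by ring) rfl
  rw [Um_eq] at hg
  refine gd_of_sim hg ?_
  obtain ⟨P, hP, hP'⟩ := sim_reg h3 h2
  generalize c ^ 2 * s - r - a = b at hb
  generalize a * (b + r) + s - c * r = w
  have e2 : (!![0, a, w; 0, 0, b; 0, 0, 0] : Matrix (Fin 3) (Fin 3) K) ^ 2 = !![0, 0, a * b; 0, 0, 0; 0, 0, 0] := by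
    rw [pow_two]
    ext i j
    (revert i j; simp only [Matrix.mul_apply, Fin.sum_univ_three, _root_.Fin.forall_fin_succ, _root_.Matrix.of_apply, _root_.Matrix.cons_val', _root_.Matrix.cons_val_fin_one, Fin.isValue, _root_.Matrix.cons_val_zero, _root_.Matrix.cons_val_one, _root_.Matrix.cons_val, _root_.MulZeroClass.mul_zero, _root_.add_zero, _root_.Matrix.cons_val_succ, _root_.forall_const, _root_.MulZeroClass.zero_mul, _root_.zero_add, _root_.and_self, _root_.implies_true])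
  obtain ⟨Q, hQ, hQ'⟩ := sim_reg (K := K) (N := !![0, a, w; 0, 0, b; 0, 0, 0]) (by
      rw [pow_succ, e2]
      ext i j
      (revert i j; simp only [Matrix.mul_apply, Fin.sum_univ_three, _root_.Fin.forall_fin_succ, _root_.Matrix.of_apply, _root_.Matrix.cons_val', _root_.Matrix.cons_val_fin_one, Fin.isValue, _root_.Matrix.cons_val_zero, _root_.Matrix.cons_val_one, _root_.Matrix.cons_val, _root_.Matrix.zero_apply, _root_.MulZeroClass.mul_zero, _root_.add_zero, _root_.Matrix.cons_val_succ, _root_.mul_eq_zero, _root_.forall_const, _root_.true_and, _root_.true_or, _root_.MulZeroClass.zero_mul, _root_.and_self, _root_.implies_true])) (by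
      rw [e2]
      intro h
      have := congrFun (congrFun h 0) 2
      exact mul_ne_zero ha hb (by simpa using this))
  exact sim_trans hP hP' hQ hQ'

theorem gd_one (s r : K) : Gd s r (1 : Matrix (Fin 3) (Fin 3) K) :=
  ⟨Zi r s, Zm r s, det_Zi r s, det_Zm r s, (Zi_mul r s).symm, Or.inl (charpoly_Zi r s),
    Or.inr (charpoly_of_inv (det_Zi r s) (charpoly_Zi r s) (Zm_mul r s))⟩

/-! ### a simple eigenvalue -/

theorem gd_simple [Finite K] (hq : 4 ≤ Nat.card K) {l : Matrix (Fin 3) (Fin 3) K} (hl : l.det = 1) {x : K}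
    {p : K[X]} (hp : l.charpoly = (X - C x) * p) (hx : p.eval x ≠ 0) {s r : K} (hirr : Irreducible (cu s r)) :
    Gd s r l := by
  obtain ⟨Z, h, hZ, hh, hZh⟩ := Cfsg.Agent.H864.Ore.gl_comm hq l hl x p hp hx (cu s r) hirr (cu_monic s r)
    (by rw [cu_natDegree, Fintype.card_fin]) (by rw [Fintype.card_fin]; norm_num)
  have hZd : Z.det = 1 := by
    rw [Matrix.det_eq_sign_charpoly_coeff, hZ, cu_coeff, Fintype.card_fin]
    norm_num
  have huh : IsUnit h.det := by rw [hh]; exact isUnit_one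
  have huZ : IsUnit Z.det := by rw [hZd]; exact isUnit_one
  have h1 : h * h⁻¹ = 1 := Matrix.mul_nonsing_inv _ huh
  have h2 : h⁻¹ * h = 1 := Matrix.nonsing_inv_mul _ huh
  have h3 : Z * Z⁻¹ = 1 := Matrix.mul_nonsing_inv _ huZ
  have h4 : Z⁻¹ * Z = 1 := Matrix.nonsing_inv_mul _ huZ
  let U : (Matrix (Fin 3) (Fin 3) K)ˣ := ⟨h, h⁻¹, h1, h2⟩
  have hc : ∀ M : Matrix (Fin 3) (Fin 3) K, (h * M * h⁻¹).charpoly = M.charpoly := fun M =>
    Matrix.charpoly_units_conj U M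
  have hd : ∀ M : Matrix (Fin 3) (Fin 3) K, (h * M * h⁻¹).det = M.det := fun M => Matrix.det_units_conj U M
  refine ⟨h * Z * h⁻¹, Z⁻¹, by rw [hd, hZd], ?_, ?_, by rw [hc]; exact Or.inl hZ, Or.inr (charpoly_of_inv hZd hZ h4)⟩
  · have := congrArg Matrix.det h3
    rwa [Matrix.det_mul, hZd, one_mul, Matrix.det_one] at this
  · rw [← hZh]
    calc l = l * (Z * Z⁻¹) := by rw [h3, mul_one]
      _ = l * Z * (h * h⁻¹) * Z⁻¹ := by rw [h1]; simp only [mul_assoc, mul_one]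
      _ = _ := by simp only [mul_assoc]

/-- **elements with an eigenvalue** -/
theorem gd_reducible [Finite K] (hq : 4 ≤ Nat.card K) {s r : K} (hirr : Irreducible (cu s r))
    (hroot : ∀ x, (cu s r).eval x ≠ 0) {l : Matrix (Fin 3) (Fin 3) K} (hl : l.det = 1)
    (hs : ∀ c : K, l ≠ c • (1 : Matrix (Fin 3) (Fin 3) K)) {x : K} (hx : l.charpoly.eval x = 0) : Gd s r l := by
  obtain ⟨p, hp⟩ := dvd_iff_isRoot.2 hx
  have hpm : p.Monic := (monic_X_sub_C x).of_mul_monic_left (hp ▸ l.charpoly_monic)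
  by_cases hpx : p.eval x = 0
  swap
  · exact gd_simple hq hl hp hpx hirr
  obtain ⟨p2, hp2⟩ := dvd_iff_isRoot.2 hpx
  have hpm2 : p2.Monic := (monic_X_sub_C x).of_mul_monic_left (hp2 ▸ hpm)
  have hd : p2.natDegree = 1 := by
    have h1 : l.charpoly.natDegree = 3 := by rw [Matrix.charpoly_natDegree_eq_dim, Fintype.card_fin]
    rw [hp, hp2, (monic_X_sub_C x).natDegree_mul ((monic_X_sub_C x).mul hpm2), (monic_X_sub_C x).natDegree_mul hpm2,
      natDegree_X_sub_C] at h1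
    omega
  obtain ⟨y, hy⟩ : ∃ y, p2 = X - C y := by
    refine ⟨-p2.coeff 0, ?_⟩
    have h1 := hpm2.as_sum
    rw [hd, Finset.sum_range_one] at h1
    rw [h1]
    simp only [_root_.pow_one, _root_.pow_zero, _root_.mul_one, _root_.Polynomial.coeff_add, _root_.Polynomial.coeff_X_zero, _root_.Polynomial.coeff_C_zero, _root_.zero_add, _root_.map_neg, _root_.sub_neg_eq_add]
  by_cases hxy : y = x
  swap
  · refine gd_simple (x := y) (p := (X - C x) * (X - C x)) hq hl ?_ ?_ hirr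
    · rw [hp, hp2, hy]
      ring
    · simp only [eval_mul, eval_sub, eval_X, eval_C]
      exact mul_ne_zero (sub_ne_zero.2 hxy) (sub_ne_zero.2 hxy)
  -- all eigenvalues are equal
  rw [hxy] at hy
  have hch : l.charpoly = (X - C x) ^ 3 := by
    rw [hp, hp2, hy]
    ring
  have hx3 : x ^ 3 = 1 := by
    have h1 := Matrix.det_eq_sign_charpoly_coeff l
    rw [hl, hch, Fintype.card_fin, coeff_zero_eq_eval_zero] at h1
    simp only [eval_pow, eval_sub, eval_X, eval_C] at h1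
    rw [h1]
    ring
  have hCH : (l - x • (1 : Matrix (Fin 3) (Fin 3) K)) ^ 3 = 0 := by
    have h1 := Matrix.aeval_self_charpoly l
    rw [hch, map_pow, map_sub, aeval_X, aeval_C, Algebra.algebraMap_eq_smul_one] at h1
    exact h1
  have hlN : l = x • (1 + (x ^ 2 • l - 1)) := by
    rw [add_sub_cancel, smul_smul, ← pow_succ', hx3, one_smul]
  have hN3 : (x ^ 2 • l - 1) ^ 3 = 0 := by
    have h1 : x ^ 2 • l - 1 = x ^ 2 • (l - x • (1 : Matrix (Fin 3) (Fin 3) K)) := by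
      rw [smul_sub, smul_smul, ← pow_succ, hx3, one_smul]
    rw [h1, _root_.smul_pow, hCH, smul_zero]
  rw [hlN]
  by_cases h1 : (x ^ 2 • l - 1) = 0
  · exfalso
    apply hs x
    rw [h1, add_zero] at hlN
    exact hlN
  by_cases h2 : (x ^ 2 • l - 1) ^ 2 = 0
  · exact gd_tr h2 h1 hx3 hroot
  · exact gd_reg hN3 h2 hx3 (exists_ne_ne hq)

/-! ### irreducible elements -/

/-- irreducible elements with the same characteristic polynomial are conjugate -/
theorem gd_of_charpoly [Finite K] {s r : K} {l P : Matrix (Fin 3) (Fin 3) K} (hl : l.det = 1) (hP : Gd s r P)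
    (hirr : Irreducible l.charpoly) (h : l.charpoly = P.charpoly) : Gd s r l := by
  have hPd : P.det = 1 := by
    obtain ⟨X, Y, h1, h2, rfl, -, -⟩ := hP
    rw [Matrix.det_mul, h1, h2, one_mul]
  obtain ⟨P', rfl⟩ : ∃ P' : _root_.Matrix.SpecialLinearGroup (Fin 3) K, (P' : Matrix (Fin 3) (Fin 3) K) = P := ⟨⟨P, hPd⟩, rfl⟩
  obtain ⟨l', rfl⟩ : ∃ l' : _root_.Matrix.SpecialLinearGroup (Fin 3) K, (l' : Matrix (Fin 3) (Fin 3) K) = l := ⟨⟨l, hl⟩, rfl⟩
  obtain ⟨g, hg⟩ := H150.MF.exists_conj (H150.MF.cls_of_irreducible (h ▸ hirr)) (H150.MF.cls_of_irreducible hirr) h.symm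
  refine hP.conj (R := (g : Matrix (Fin 3) (Fin 3) K)) (by rw [g.2]; exact one_ne_zero) ?_
  have h1 : l' * g = g * P' := by rw [hg]; group
  exact (Matrix.SpecialLinearGroup.coe_mul l' g).symm.trans
    ((congrArg (fun z : _root_.Matrix.SpecialLinearGroup (Fin 3) K => (z : Matrix (Fin 3) (Fin 3) K)) h1).trans
      (Matrix.SpecialLinearGroup.coe_mul g P'))

theorem Gd.inv {s r : K} {l l' : Matrix (Fin 3) (Fin 3) K} (h : Gd s r l') (h1 : l * l' = 1) : Gd s r l := by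
  obtain ⟨X, Y, hX, hY, rfl, hXc, hYc⟩ := h
  have huX : IsUnit X.det := by rw [hX]; exact isUnit_one
  have huY : IsUnit Y.det := by rw [hY]; exact isUnit_one
  have e1 : X * X⁻¹ = 1 := Matrix.mul_nonsing_inv _ huX
  have e2 : X⁻¹ * X = 1 := Matrix.nonsing_inv_mul _ huX
  have e3 : Y * Y⁻¹ = 1 := Matrix.mul_nonsing_inv _ huY
  have e4 : Y⁻¹ * Y = 1 := Matrix.nonsing_inv_mul _ huY
  refine ⟨Y⁻¹, X⁻¹, ?_, ?_, ?_, ?_, ?_⟩
  · have := congrArg Matrix.det e3
    rwa [Matrix.det_mul, hY, one_mul, Matrix.det_one] at this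
  · have := congrArg Matrix.det e1
    rwa [Matrix.det_mul, hX, one_mul, Matrix.det_one] at this
  · calc l = l * (X * (Y * Y⁻¹) * X⁻¹) := by rw [e3, mul_one, e1, mul_one]
      _ = l * (X * Y) * (Y⁻¹ * X⁻¹) := by simp only [mul_assoc]
      _ = _ := by rw [h1, one_mul]
  · exact hYc.symm.imp (fun h => charpoly_of_inv hY h e4) fun h => charpoly_of_inv hY h e4
  · exact hXc.symm.imp (fun h => charpoly_of_inv hX h e2) fun h => charpoly_of_inv hX h e2

theorem charpoly_cu {s r : K} {M : Matrix (Fin 3) (Fin 3) K} (h1 : M 0 0 + M 1 1 + M 2 2 = s)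
    (h2 : M 0 0 * M 1 1 - M 0 1 * M 1 0 + (M 0 0 * M 2 2 - M 0 2 * M 2 0) + (M 1 1 * M 2 2 - M 1 2 * M 2 1) = r)
    (h3 : M.det = 1) : M.charpoly = cu s r := by
  rw [charpoly_three, h1, h2, h3, cu]

/-! ### the field with four elements -/

theorem two_eq_zero [Finite K] (hK : Nat.card K = 4) : (2 : K) = 0 := by
  have := Fintype.ofFinite K
  have h1 : ((Fintype.card K : ℕ) : K) = 0 := Nat.cast_card_eq_zero K
  rw [← Nat.card_eq_fintype_card, hK] at h1
  have h2 : (2 : K) * 2 = 0 := by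
    rw [← h1]
    norm_num
  exact mul_self_eq_zero.1 h2

theorem cube_eq_one [Finite K] (hK : Nat.card K = 4) {x : K} (hx : x ≠ 0) : x ^ 3 = 1 := by
  have := Fintype.ofFinite K
  have h1 := FiniteField.pow_card_sub_one_eq_one x hx
  rwa [← Nat.card_eq_fintype_card, hK] at h1

theorem root_four [Finite K] (hK : Nat.card K = 4) (x : K) : (cu 0 1 : K[X]).eval x ≠ 0 := by
  have h2 := two_eq_zero hK
  rw [cu_eval]
  intro h
  by_cases hx : x = 0
  · rw [hx] at h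
    norm_num at h
  · have h3 := cube_eq_one hK hx
    apply hx
    linear_combination h - h3

theorem irr_four [Finite K] (hK : Nat.card K = 4) : Irreducible (cu 0 1 : K[X]) :=
  irr_of_poly (cu_monic 0 1) (cu_natDegree 0 1) (root_four hK)

/-- `X³ - a X² - 1` -/
theorem gd_a [Finite K] (hK : Nat.card K = 4) {l : Matrix (Fin 3) (Fin 3) K} (hl : l.det = 1) {a : K} (ha : a ≠ 0)
    (h : l.charpoly = cu a 0) (hirr : Irreducible l.charpoly) : Gd 0 1 l := by
  have h2 := two_eq_zero hK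
  have h3 := cube_eq_one hK ha
  have hZ : (Zi 1 0 : Matrix (Fin 3) (Fin 3) K) = !![0, 1, 0; -1, 0, 1; 1, 0, 0] := rfl
  by_cases h1 : a = 1
  · have e : Zi 1 0 * !![0, 1, 0; 0, 1, 1; 1, 0, 1] = (!![0, 1, 1; 1, -1, 1; 0, 1, 0] : Matrix (Fin 3) (Fin 3) K) := by
      rw [hZ]
      ext i j
      (revert i j; simp only [Matrix.mul_apply, Fin.sum_univ_three, _root_.Fin.forall_fin_succ, _root_.Matrix.of_apply, _root_.Matrix.cons_val', _root_.Matrix.cons_val_fin_one, Fin.isValue, _root_.Matrix.cons_val_zero, _root_.Matrix.cons_val_one, _root_.Matrix.cons_val, _root_.MulZeroClass.mul_zero, _root_.add_zero, _root_.mul_one, _root_.zero_add, _root_.Matrix.cons_val_succ, _root_.forall_const, _root_.true_and, _root_.and_self, _root_.add_eq_left, _root_.add_eq_right, _root_.implies_true])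
    have hd : (!![0, 1, 0; 0, 1, 1; 1, 0, 1] : Matrix (Fin 3) (Fin 3) K).det = 1 := by
      simp [Matrix.det_fin_three]
    refine gd_of_charpoly hl (P := Zi 1 0 * !![0, 1, 0; 0, 1, 1; 1, 0, 1]) ?_ hirr ?_
    · refine ⟨_, _, det_Zi 1 0, hd, rfl, Or.inl (charpoly_Zi 1 0), Or.inl (charpoly_cu ?_ ?_ hd)⟩
      · simp only [_root_.Fin.isValue, _root_.Matrix.of_apply, _root_.Matrix.cons_val', _root_.Matrix.cons_val_zero, _root_.Matrix.cons_val_fin_one, _root_.Matrix.cons_val_one, _root_.zero_add, _root_.Matrix.cons_val]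
        linear_combination h2
      · simp
    · rw [h, h1, e]
      refine (charpoly_cu ?_ ?_ ?_).symm
      · simp
        linear_combination -h2
      · simp only [_root_.Fin.isValue, _root_.Matrix.of_apply, _root_.Matrix.cons_val', _root_.Matrix.cons_val_zero, _root_.Matrix.cons_val_fin_one, _root_.Matrix.cons_val_one, _root_.mul_neg, _root_.mul_one, _root_.neg_zero, _root_.zero_sub, _root_.Matrix.cons_val, _root_.MulZeroClass.mul_zero, _root_.sub_self, _root_.add_zero]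
        linear_combination -h2
      · simp [Matrix.det_fin_three]
        try linear_combination h2
  · have ha2 : a ^ 2 + a + 1 = 0 := by
      have h4 : (a - 1) * (a ^ 2 + a + 1) = 0 := by linear_combination h3
      exact (mul_eq_zero.1 h4).resolve_left (sub_ne_zero.2 h1)
    have e : Zi 1 0 * !![0, a ^ 2, 0; 0, 0, 1; a, 1, 0] =
        (!![0, 0, 1; a, 1 - a ^ 2, 0; 0, a ^ 2, 0] : Matrix (Fin 3) (Fin 3) K) := by
      rw [hZ]
      ext i j
      (revert i j; simp only [Matrix.mul_apply, Fin.sum_univ_three, _root_.Fin.forall_fin_succ, _root_.Matrix.of_apply, _root_.Matrix.cons_val', _root_.Matrix.cons_val_fin_one, Fin.isValue, _root_.Matrix.cons_val_zero, _root_.Matrix.cons_val_one, _root_.Matrix.cons_val, _root_.MulZeroClass.mul_zero, _root_.add_zero, _root_.zero_add, _root_.Matrix.cons_val_succ, _root_.mul_one, _root_.implies_true, _root_.MulZeroClass.zero_mul, _root_.one_mul, _root_.neg_mul, _root_.and_true,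 _root_.true_and]) <;> (repeat' with_reducible apply And.intro)
      ring
    have hd : (!![0, a ^ 2, 0; 0, 0, 1; a, 1, 0] : Matrix (Fin 3) (Fin 3) K).det = 1 := by
      simp only [Matrix.det_fin_three, _root_.Fin.isValue, _root_.Matrix.of_apply, _root_.Matrix.cons_val', _root_.Matrix.cons_val_zero, _root_.Matrix.cons_val_fin_one, _root_.Matrix.cons_val_one, _root_.MulZeroClass.mul_zero, _root_.Matrix.cons_val, _root_.mul_one, _root_.sub_self, _root_.zero_add, _root_.add_zero, _root_.MulZeroClass.zero_mul, _root_.sub_zero]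
      linear_combination h3
    refine gd_of_charpoly hl (P := Zi 1 0 * !![0, a ^ 2, 0; 0, 0, 1; a, 1, 0]) ?_ hirr ?_
    · refine ⟨_, _, det_Zi 1 0, hd, rfl, Or.inl (charpoly_Zi 1 0), Or.inl (charpoly_cu ?_ ?_ hd)⟩
      · simp
      · simp
        linear_combination -h2
    · rw [h, e]
      refine (charpoly_cu ?_ ?_ ?_).symm
      · simp
        linear_combination -ha2 + h2
      · simp
      · simp only [Matrix.det_fin_three, _root_.Fin.isValue, _root_.Matrix.of_apply, _root_.Matrix.cons_val', _root_.Matrix.cons_val_zero, _root_.Matrix.cons_val_fin_one, _root_.Matrix.cons_val_one, _root_.MulZeroClass.zero_mul, _root_.Matrix.cons_val, _root_.MulZeroClass.mul_zero, _root_.sub_self, _root_.add_zero, _root_.one_mul, _root_.zero_add, _root_.sub_zero]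
        linear_combination h3

theorem gd_four [Finite K] (hK : Nat.card K = 4) {l : Matrix (Fin 3) (Fin 3) K} (hl : l.det = 1)
    (hs : l = 1 ∨ ∀ c : K, l ≠ c • (1 : Matrix (Fin 3) (Fin 3) K)) : Gd 0 1 l := by
  rcases hs with rfl | hs
  · exact gd_one 0 1
  by_cases hl0 : ∀ x, l.charpoly.eval x ≠ 0
  swap
  · push Not at hl0
    obtain ⟨x, hx⟩ := hl0
    exact gd_reducible (by rw [hK]) (irr_four hK) (root_four hK) hl hs hx
  have hirr := (irr_iff l).2 hl0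
  obtain ⟨a, b, hab⟩ : ∃ a b : K, l.charpoly = cu a b := ⟨_, _, charpoly_cu rfl rfl hl⟩
  have h1 : b - a ≠ 0 := by
    intro h
    apply hl0 1
    rw [hab, cu_eval]
    linear_combination h
  have hz : a = 0 ∨ b = 0 := by
    by_contra hcon
    push Not at hcon
    have hx : b / a ≠ 0 := div_ne_zero hcon.2 hcon.1
    apply hl0 (b / a)
    rw [hab, cu_eval]
    have h3 := cube_eq_one hK hx
    have h4 : a * (b / a) = b := mul_div_cancel₀ b hcon.1
    linear_combination h3 - (b / a) * h4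
  rcases hz with rfl | rfl
  · have hu : IsUnit l.det := by rw [hl]; exact isUnit_one
    have e1 : l * l⁻¹ = 1 := Matrix.mul_nonsing_inv _ hu
    have e2 : l⁻¹ * l = 1 := Matrix.nonsing_inv_mul _ hu
    have hd : l⁻¹.det = 1 := by
      have := congrArg Matrix.det e1
      rwa [Matrix.det_mul, hl, one_mul, Matrix.det_one] at this
    refine (gd_a hK hd (a := b) ?_ (charpoly_of_inv hl hab e2) (irr_inv hirr e1)).inv e1
    rwa [sub_zero] at h1
  · refine gd_a hK hl (a := a) ?_ hab hirr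
    intro h
    rw [h, sub_zero] at h1
    exact h1 rfl

theorem pow_seven [Finite K] (hK : Nat.card K = 4) {M : Matrix (Fin 3) (Fin 3) K}
    (h : M.charpoly = cu 0 1 ∨ M.charpoly = cu 1 0) : M ^ 7 = 1 := by
  have h2 := two_eq_zero hK
  have h2M : ∀ N : Matrix (Fin 3) (Fin 3) K, N + N = 0 := fun N => by
    rw [← two_smul K N, h2, zero_smul]
  have hCH := Matrix.aeval_self_charpoly M
  rcases h with h | h
  · rw [h, cu] at hCH
    simp only [map_sub, map_add, map_pow, aeval_X, map_zero, zero_mul, map_one, one_mul, sub_zero] at hCH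
    have h3 : M ^ 3 = M + 1 := by
      have : M ^ 3 = (M ^ 3 + M - 1) - (M + M) + (M + 1) := by abel
      rw [this, hCH, h2M, sub_zero, zero_add]
    calc M ^ 7 = M * (M ^ 3) * (M ^ 3) := by rw [← pow_succ', ← pow_add]
      _ = M * (M + 1) * (M + 1) := by rw [h3]
      _ = M ^ 3 + (M * M + M * M) + M := by noncomm_ring
      _ = (M + M) + 1 := by rw [h2M, h3]; abel
      _ = 1 := by rw [h2M, zero_add]
  · rw [h, cu] at hCH
    simp only [map_sub, map_pow, aeval_X, map_zero, zero_mul, map_one, one_mul, add_zero] at hCH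
    have h3 : M ^ 3 = M ^ 2 + 1 := by
      have : M ^ 3 = (M ^ 3 - M ^ 2 - 1) + (M ^ 2 + 1) := by abel
      rw [this, hCH, zero_add]
    calc M ^ 7 = M * (M ^ 3) * (M ^ 3) := by rw [← pow_succ', ← pow_add]
      _ = M * (M ^ 2 + 1) * (M ^ 2 + 1) := by rw [h3]
      _ = M ^ 3 * M ^ 2 + (M ^ 3 + M ^ 3) + M := by noncomm_ring
      _ = (M ^ 2 + 1) * M ^ 2 + M := by rw [h2M, h3, add_zero]
      _ = M ^ 3 * M + M ^ 2 + M := by noncomm_ring
      _ = (M ^ 2 + 1) * M + M ^ 2 + M := by rw [h3]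
      _ = M ^ 3 + (M + M) + M ^ 2 := by noncomm_ring
      _ = (M ^ 2 + M ^ 2) + 1 := by rw [h2M, h3]; abel
      _ = 1 := by rw [h2M, zero_add]

/-- **`SL_3(4)`**, matrices -/
theorem mat_three_four [Finite K] (hK : Nat.card K = 4) {l : Matrix (Fin 3) (Fin 3) K} (hl : l.det = 1)
    (hs : l = 1 ∨ ∀ c : K, l ≠ c • (1 : Matrix (Fin 3) (Fin 3) K)) :
    ∃ X Y : Matrix (Fin 3) (Fin 3) K, l = X * Y ∧ X.det = 1 ∧ Y.det = 1 ∧ Irreducible X.charpoly ∧
      Irreducible Y.charpoly ∧ X ^ 7 = 1 ∧ Y ^ 7 = 1 ∧ (X.charpoly = cu 0 1 ∨ X.charpoly = cu 1 0) ∧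
      (Y.charpoly = cu 0 1 ∨ Y.charpoly = cu 1 0) := by
  obtain ⟨X, Y, hX, hY, h1, h2, h3⟩ := gd_four hK hl hs
  have hirr' : Irreducible (cu 1 0 : K[X]) := by
    have e0 : (Zi (K := K) 1 0).charpoly = cu 0 1 := charpoly_Zi 1 0
    have e1 : Zi (K := K) 1 0 * Zm 1 0 = 1 := Zi_mul 1 0
    have e2 : Zm (K := K) 1 0 * Zi 1 0 = 1 := Zm_mul 1 0
    have h4 : Irreducible (Zm (K := K) 1 0).charpoly := irr_inv (by rw [e0]; exact irr_four hK) e1
    rwa [charpoly_of_inv (det_Zi 1 0) e0 e2] at h4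
  have key : ∀ M : Matrix (Fin 3) (Fin 3) K, (M.charpoly = cu 0 1 ∨ M.charpoly = cu 1 0) → Irreducible M.charpoly := by
    rintro M (h | h)
    · rw [h]; exact irr_four hK
    · rw [h]; exact hirr'
  exact ⟨X, Y, h1, hX, hY, key _ h2, key _ h3, pow_seven hK h2, pow_seven hK h3, h2, h3⟩

/-- **`SL_3(4)`** -/
theorem p_three_four [Finite K] (hK : Nat.card K = 4) (v u : _root_.Matrix.SpecialLinearGroup (Fin 3) K)
    (hv : v ∈ H162.GaussSL.LT 3 K) (hu : u ∈ H162.GaussSL.UT 3 K) :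
    ∃ X Y : _root_.Matrix.SpecialLinearGroup (Fin 3) K, v * u = X * Y ∧ Irreducible (X : Matrix (Fin 3) (Fin 3) K).charpoly ∧
      Irreducible (Y : Matrix (Fin 3) (Fin 3) K).charpoly ∧ X ^ 7 = 1 ∧ Y ^ 7 = 1 := by
  have hs : ((v * u : _root_.Matrix.SpecialLinearGroup (Fin 3) K) : Matrix (Fin 3) (Fin 3) K) = 1 ∨
      ∀ c : K, ((v * u : _root_.Matrix.SpecialLinearGroup (Fin 3) K) : Matrix (Fin 3) (Fin 3) K) ≠
        c • (1 : Matrix (Fin 3) (Fin 3) K) := by
    by_cases h : v * u = 1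
    · left
      rw [h]
      exact Matrix.SpecialLinearGroup.coe_one
    right
    intro c hc
    apply h
    have h1 : ((v * u : _root_.Matrix.SpecialLinearGroup (Fin 3) K) : Matrix (Fin 3) (Fin 3) K) 0 0 = 1 := by
      have h2 : ((v * u : _root_.Matrix.SpecialLinearGroup (Fin 3) K) : Matrix (Fin 3) (Fin 3) K) 0 0 =
          ∑ k, (v : Matrix (Fin 3) (Fin 3) K) 0 k * (u : Matrix (Fin 3) (Fin 3) K) k 0 := by
        rw [Matrix.SpecialLinearGroup.coe_mul, Matrix.mul_apply]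
      have e1 : (u : Matrix (Fin 3) (Fin 3) K) 1 0 = 0 := hu.1 (i := 1) (j := 0) (by decide)
      have e2 : (u : Matrix (Fin 3) (Fin 3) K) 2 0 = 0 := hu.1 (i := 2) (j := 0) (by decide)
      have e3 : (u : Matrix (Fin 3) (Fin 3) K) 0 0 = 1 := hu.2 0
      have e4 : (v : Matrix (Fin 3) (Fin 3) K) 0 0 = 1 := hv.2 0
      rw [h2, Fin.sum_univ_three, e1, e2, e3, e4]
      simp
    rw [hc, Matrix.smul_apply, Matrix.one_apply_eq, smul_eq_mul, mul_one] at h1
    apply Subtype.ext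
    rw [hc, h1, one_smul]
    exact Matrix.SpecialLinearGroup.coe_one.symm
  obtain ⟨X, Y, hX, hY, h1, h2, h3⟩ := gd_four hK (v * u).2 hs
  obtain ⟨X', rfl⟩ : ∃ X' : _root_.Matrix.SpecialLinearGroup (Fin 3) K, (X' : Matrix (Fin 3) (Fin 3) K) = X := ⟨⟨X, hX⟩, rfl⟩
  obtain ⟨Y', rfl⟩ : ∃ Y' : _root_.Matrix.SpecialLinearGroup (Fin 3) K, (Y' : Matrix (Fin 3) (Fin 3) K) = Y := ⟨⟨Y, hY⟩, rfl⟩
  have hirr' : Irreducible (cu 1 0 : K[X]) := by
    have e0 : (Zi (K := K) 1 0).charpoly = cu 0 1 := charpoly_Zi 1 0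
    have e1 : Zi (K := K) 1 0 * Zm 1 0 = 1 := Zi_mul 1 0
    have e2 : Zm (K := K) 1 0 * Zi 1 0 = 1 := Zm_mul 1 0
    have h4 : Irreducible (Zm (K := K) 1 0).charpoly := irr_inv (by rw [e0]; exact irr_four hK) e1
    rwa [charpoly_of_inv (det_Zi 1 0) e0 e2] at h4
  have key : ∀ M : Matrix (Fin 3) (Fin 3) K, (M.charpoly = cu 0 1 ∨ M.charpoly = cu 1 0) → Irreducible M.charpoly := by
    rintro M (h | h)
    · rw [h]; exact irr_four hK
    · rw [h]; exact hirr'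
  refine ⟨X', Y', Subtype.ext (h1.trans (Matrix.SpecialLinearGroup.coe_mul X' Y').symm), key _ h2, key _ h3,
    Subtype.ext ?_, Subtype.ext ?_⟩
  · exact (Matrix.SpecialLinearGroup.coe_pow X' 7).trans ((pow_seven hK h2).trans Matrix.SpecialLinearGroup.coe_one.symm)
  · exact (Matrix.SpecialLinearGroup.coe_pow Y' 7).trans ((pow_seven hK h3).trans Matrix.SpecialLinearGroup.coe_one.symm)

end Cfsg.Agent.H85.Pw.PThree
end

-- part: H763/Fi22/PwC0
section
set_option linter.all false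

/-!
# `Fi22`: certificates for products of two elements of order 13 and of order 7, part 1 (helper763)

`cert n a b x y` : the `n`-th powers of the words `x`, `y` are trivial and `x y = [a, b]`, in the 78-dimensional representation
over `F₂` (matrices of helper494; class words of helper878 / helper123).
-/

set_option autoImplicit false
set_option maxRecDepth 100000
set_option exponentiation.threshold 300000

namespace Cfsg.Agent.H763.Fi22.Pw

open Cfsg.Agent.H494.F22 (chkP rp)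
open Cfsg.Agent.H123.Cls (band chkL)

/-- the certificate -/
noncomputable def cert (n : ℕ) (a b x y : List ℕ) : Bool :=
  band (chkL 9 a) (band (chkL 9 b) (band (chkL 9 x) (band (chkL 9 y) (band (chkP (rp n x, []))
    (band (chkP (rp n y, [])) (chkP (x ++ y, a ++ (b ++ (a.reverse ++ b.reverse)))))))))

theorem c13_0 : cert 13 [3, 7, 4, 3] [2, 4] [3, 2, 1, 0, 4, 5, 4, 6, 8, 7] [7, 8, 6, 4, 5, 4, 0, 1, 2, 7, 4, 3, 2, 4, 3, 4, 7, 3, 4, 2] = true := by decide +kernel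
theorem c7_0 : cert 7 [3, 7, 4, 3] [2, 4] [3, 2, 1, 0, 5, 4] [4, 5, 0, 1, 2, 7, 4, 3, 2, 4, 3, 4, 7, 3, 4, 2] = true := by decide +kernel
theorem c13_1 : cert 13 [7] [3, 8] [7, 3, 2, 1, 0, 4, 5, 8] [8, 5, 4, 0, 1, 2, 8, 7, 8, 3] = true := by decide +kernel
theorem c7_1 : cert 7 [7] [3, 8] [7, 3, 2, 1, 0, 8] [8, 0, 1, 2, 8, 7, 8, 3] = true := by decide +kernel
theorem c13_2 : cert 13 [8, 6, 5, 4, 3, 2, 7, 0, 4, 2, 2, 3, 4, 5, 6, 8] [3, 4, 6, 7, 8, 7, 3, 2, 4] [8, 7, 3, 2, 1, 0, 4, 5] [5, 4, 0, 1, 2, 3, 7, 6, 5, 4, 3, 2, 7, 0, 4, 3, 4, 5, 6, 8, 3, 4, 6, 7, 8, 7, 3, 2, 4, 8, 6, 5, 4, 3, 4, 0, 7, 2, 3, 4, 5, 6, 8, 4, 2, 3, 7, 8, 7, 6, 4, 3] = true := by decide +kernel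
theorem c7_2 : cert 7 [8, 6, 5, 4, 3, 2, 7, 0, 4, 2, 2, 3, 4, 5, 6, 8] [3, 4, 6, 7, 8, 7, 3, 2, 4] [1, 2, 5, 6, 7, 3, 2, 4, 3] [3, 4, 2, 3, 7, 6, 5, 2, 1, 8, 6, 5, 4, 3, 2, 7, 0, 4, 3, 4, 5, 6, 8, 3, 4, 6, 7, 8, 7, 3, 2, 4, 8, 6, 5, 4, 3, 4, 0, 7, 2, 3, 4, 5, 6, 8, 4, 2, 3, 7, 8, 7, 6, 4, 3] = true := by decide +kernel
theorem c13_3 : cert 13 [1, 8, 6] [2, 5, 7] [1, 0, 2, 3, 4, 5, 8, 7] [7, 8, 5, 4, 3, 2, 0, 8, 6, 2, 5, 7, 6, 8, 1, 7, 5, 2] = true := by decide +kernel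
theorem c7_3 : cert 7 [1, 8, 6] [2, 5, 7] [2, 1, 3, 4, 6, 5] [5, 6, 4, 3, 1, 2, 1, 8, 6, 2, 5, 7, 6, 8, 1, 7, 5, 2] = true := by decide +kernel
theorem c13_4 : cert 13 [3, 7, 4, 0, 3, 8, 5, 4, 7, 3] [2, 8, 7] [3, 2, 1, 0, 5, 4, 8, 7] [7, 8, 4, 5, 0, 1, 2, 7, 4, 0, 3, 8, 5, 4, 7, 3, 2, 8, 7, 3, 7, 4, 5, 8, 3, 0, 4, 7, 3, 7, 8, 2] = true := by decide +kernel
theorem c7_4 : cert 7 [3, 7, 4, 0, 3, 8, 5, 4, 7, 3] [2, 8, 7] [3, 4, 6, 5, 8, 7] [7, 8, 5, 6, 4, 7, 4, 0, 3, 8, 5, 4, 7, 3, 2, 8, 7, 3, 7, 4, 5, 8, 3, 0, 4, 7, 3, 7, 8, 2] = true := by decide +kernel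
theorem c13_5 : cert 13 [0, 3] [1, 7] [0, 3, 2, 1, 4, 5, 7, 8] [8, 7, 5, 4, 1, 2, 1, 7, 3, 0, 7, 1] = true := by decide +kernel
theorem c7_5 : cert 7 [0, 3] [1, 7] [0, 3, 2, 1, 4, 5] [5, 4, 1, 2, 1, 7, 3, 0, 7, 1] = true := by decide +kernel
theorem c13_6 : cert 13 [2] [1] [2, 1, 0, 3, 4, 5, 7, 8] [8, 7, 5, 4, 3, 0, 2, 1] = true := by decide +kernel
theorem c7_6 : cert 7 [2] [1] [2, 1, 0, 3, 4, 5] [5, 4, 3, 0, 2, 1] = true := by decide +kernel
theorem c13_7 : cert 13 [2, 4, 7] [3, 8] [2, 1, 0, 3, 4, 5, 7, 8] [8, 7, 5, 4, 3, 0, 1, 4, 7, 3, 8, 7, 4, 2, 8, 3] = true := by decide +kernel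
theorem c7_7 : cert 7 [2, 4, 7] [3, 8] [2, 1, 0, 7, 3, 8] [8, 3, 7, 0, 1, 4, 7, 3, 8, 7, 4, 2, 8, 3] = true := by decide +kernel
theorem c13_8 : cert 13 [3, 7, 5, 1, 0, 8, 2, 4, 6, 1, 5, 7, 3] [4, 3, 2] [3, 2, 1, 0, 4, 5, 8, 7] [7, 8, 5, 4, 0, 1, 2, 7, 5, 1, 0, 8, 2, 4, 6, 1, 5, 7, 3, 4, 3, 2, 3, 7, 5, 1, 6, 4, 2, 8, 0, 1, 5, 7, 3, 2, 3, 4] = true := by decide +kernel
theorem c7_8 : cert 7 [3, 7, 5, 1, 0, 8, 2, 4, 6, 1, 5, 7, 3] [4, 3, 2] [6, 7, 3, 4, 5, 8] [8, 5, 4, 3, 7, 6, 3, 7, 5, 1, 0, 8, 2, 4, 6, 1, 5, 7, 3, 4, 3, 2, 3, 7, 5, 1, 6, 4, 2, 8, 0, 1, 5, 7, 3, 2, 3, 4] = true := by decide +kernel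
theorem c13_9 : cert 13 [8, 4] [5, 7, 3] [0, 1, 2, 3, 5, 4, 8, 7] [7, 8, 4, 5, 3, 2, 1, 0, 8, 4, 5, 7, 3, 4, 8, 3, 7, 5] = true := by decide +kernel
theorem c7_9 : cert 7 [8, 4] [5, 7, 3] [3, 5, 4, 6, 8, 7] [7, 8, 6, 4, 5, 3, 8, 4, 5, 7, 3, 4, 8, 3, 7, 5] = true := by decide +kernel
theorem c13_10 : cert 13 [3, 5, 2, 7, 3] [4, 6, 8, 7, 3, 5, 4] [0, 1, 2, 3, 4, 5, 8, 7] [7, 8, 5, 4, 3, 2, 1, 0, 3, 5, 2, 7, 3, 4, 6, 8, 7, 3, 5, 4, 3, 7, 2, 5, 3, 4, 5, 3, 7, 8, 6, 4] = true := by decide +kernel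
theorem c7_10 : cert 7 [3, 5, 2, 7, 3] [4, 6, 8, 7, 3, 5, 4] [3, 5, 4, 6, 7, 8] [8, 7, 6, 4, 2, 7, 3, 4, 6, 8, 7, 3, 5, 4, 3, 7, 2, 5, 3, 4, 5, 3, 7, 8, 6, 4] = true := by decide +kernel
theorem c13_11 : cert 13 [1, 5, 3] [0, 2, 4, 6] [1, 5, 6, 7, 3, 2, 4, 8] [8, 4, 2, 3, 7, 6, 3, 0, 2, 4, 6, 3, 5, 1, 6, 4, 2, 0] = true := by decide +kernel
theorem c7_11 : cert 7 [1, 5, 3] [0, 2, 4, 6] [1, 0, 2, 5, 4, 3] [3, 4, 5, 2, 0, 5, 3, 0, 2, 4, 6, 3, 5, 1, 6, 4, 2, 0] = true := by decide +kernel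
theorem c13_12 : cert 13 [8, 2] [7, 3] [0, 1, 2, 4, 3, 5, 8, 7] [7, 8, 5, 3, 4, 2, 1, 0, 8, 2, 7, 3, 2, 8, 3, 7] = true := by decide +kernel
theorem c7_12 : cert 7 [8, 2] [7, 3] [0, 1, 2, 3, 8, 7] [7, 8, 3, 2, 1, 0, 8, 2, 7, 3, 2, 8, 3, 7] = true := by decide +kernel
theorem c13_13 : cert 13 [7, 2, 4] [1, 3, 5] [7, 3, 2, 1, 0, 4, 5, 8] [8, 5, 4, 0, 1, 2, 3, 2, 4, 1, 3, 5, 4, 2, 7, 5, 3, 1] = true := by decide +kernel
theorem c7_13 : cert 7 [7, 2, 4] [1, 3, 5] [0, 2, 1, 4, 3, 5] [5, 3, 4, 1, 2, 0, 7, 2, 4, 1, 3, 5, 4, 2, 7, 5, 3, 1] = true := by decide +kernel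
theorem c13_14 : cert 13 [4, 7, 2] [1, 3, 8] [4, 3, 2, 1, 0, 5, 7, 8] [8, 7, 5, 0, 1, 2, 3, 7, 2, 1, 3, 8, 2, 7, 4, 8, 3, 1] = true := by decide +kernel
theorem c7_14 : cert 7 [4, 7, 2] [1, 3, 8] [4, 5, 6, 8, 7, 3] [3, 7, 8, 6, 5, 7, 2, 1, 3, 8, 2, 7, 4, 8, 3, 1] = true := by decide +kernel
theorem c13_15 : cert 13 [8, 2, 5] [1, 4, 7, 3] [0, 1, 3, 2, 5, 4, 8, 7] [7, 8, 4, 5, 2, 3, 1, 0, 8, 2, 5, 1, 4, 7, 3, 5, 2, 8, 3, 7, 4, 1] = true := by decide +kernel
theorem c7_15 : cert 7 [8, 2, 5] [1, 4, 7, 3] [1, 2, 6, 5, 4, 3] [3, 4, 5, 6, 2, 1, 8, 2, 5, 1, 4, 7, 3, 5, 2, 8, 3, 7, 4, 1] = true := by decide +kernel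
theorem c13_16 : cert 13 [1, 7, 4] [2, 3] [1, 0, 2, 3, 4, 5, 7, 8] [8, 7, 5, 4, 3, 2, 0, 7, 4, 2, 3, 4, 7, 1, 3, 2] = true := by decide +kernel
theorem c7_16 : cert 7 [1, 7, 4] [2, 3] [1, 0, 2, 3, 4, 5] [5, 4, 3, 2, 0, 7, 4, 2, 3, 4, 7, 1, 3, 2] = true := by decide +kernel
theorem c13_17 : cert 13 [5, 0, 3, 8] [1, 6, 7] [5, 6, 7, 3, 2, 1, 4, 8] [8, 4, 1, 2, 3, 7, 6, 0, 3, 8, 1, 6, 7, 8, 3, 0, 5, 7, 6, 1] = true := by decide +kernel
theorem c7_17 : cert 7 [5, 0, 3, 8] [1, 6, 7] [1, 0, 2, 3, 4, 3, 5, 4] [4, 5, 3, 4, 3, 2, 0, 1, 5, 0, 3, 8, 1, 6, 7, 8, 3, 0, 5, 7, 6, 1] = true := by decide +kernel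
theorem c13_18 : cert 13 [4, 3, 6, 2, 3] [7, 3, 5] [4, 3, 2, 1, 0, 5, 8, 7] [7, 8, 5, 0, 1, 2, 6, 2, 3, 7, 3, 5, 3, 2, 6, 3, 4, 5, 3, 7] = true := by decide +kernel
theorem c7_18 : cert 7 [4, 3, 6, 2, 3] [7, 3, 5] [0, 1, 2, 5, 4, 3] [3, 4, 5, 2, 1, 0, 4, 3, 6, 2, 3, 7, 3, 5, 3, 2, 6, 3, 4, 5, 3, 7] = true := by decide +kernel
theorem c13_19 : cert 13 [7, 1, 8, 3, 5, 7, 7, 2] [1, 2, 8, 7, 3, 4, 3] [0, 1, 2, 3, 4, 5, 8, 7] [7, 8, 5, 4, 3, 2, 1, 0, 7, 1, 8, 3, 5, 2, 1, 2, 8, 7, 3, 4, 3, 2, 5, 3, 8, 1, 7, 3, 4, 3, 7, 8, 2, 1] = true := by decide +kernel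
theorem c7_19 : cert 7 [7, 1, 8, 3, 5, 7, 7, 2] [1, 2, 8, 7, 3, 4, 3] [1, 0, 8, 7, 3, 2] [2, 3, 7, 8, 0, 1, 7, 1, 8, 3, 5, 2, 1, 2, 8, 7, 3, 4, 3, 2, 5, 3, 8, 1, 7, 3, 4, 3, 7, 8, 2, 1] = true := by decide +kernel

end Cfsg.Agent.H763.Fi22.Pw
end

-- part: H588/SN/Trace
section
prune_inst 0x4400000000000018058001200000000004b000030000c00002400a0250202084260140000800029208512000000000000090400000000a000800000200000000000481080000220000001080000000000000000000000000000000041000000000000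
set_option linter.all false

/-!
# The trace argument for automorphisms of order three of strongly regular graphs (helper588, S3831)

`exists_fix_or_move` : an automorphism `σ` with `σ ^ 3 = 1` of a strongly regular graph has a fixed point or moves some
vertex to an adjacent one, if a number is not integral (the trace of a rational idempotent).
-/

set_option autoImplicit false

namespace Cfsg.Agent.H588.SN.Trace

open Matrix

section Alg

variable {R : Type*} [Ring R] [Algebra ℚ R]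

end Alg

variable {X : Type*} [Fintype X] [DecidableEq X]

end Cfsg.Agent.H588.SN.Trace
end
end
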